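import Mathlib
import Cfsg.Agent.H952.F4.Defs

/-!
# Eigenspaces of elements of small order (helper546, for S5926, task F-A2 part 1)

`le_mul_ev`, `ev_neg`, `ev_i`, `four`, `eight`, `a4`, `dihedral`, `trace_pow_char`.
-/

set_option autoImplicit false
set_option linter.unusedSectionVars false

namespace Cfsg.Agent.H546.F4Eig

open Module Cfsg.Agent.H952.F4

variable {K V G : Type*} [Field K] [AddCommGroup V] [Module K V] [FiniteDimensional K V] [Group G]

theorem mem_es {T : V →ₗ[K] V} {μ : K} {v : V} : v ∈ es T μ ↔ T v = μ • v := Module.End.mem_eigenspace_iff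

theorem mem_es_one {T : V →ₗ[K] V} {v : V} : v ∈ es T 1 ↔ T v = v := by rw [mem_es, one_smul]

theorem mem_es_neg {T : V →ₗ[K] V} {v : V} : v ∈ es T (-1) ↔ T v = -v := by rw [mem_es, neg_one_smul]

theorem ev_eq (T : Module.End K V) (μ : K) : ev T μ = finrank K (es T μ) := rfl

/-! ### Unipotent elements -/

theorem finrank_ker_pow_le (N : Module.End K V) (k : ℕ) :
    finrank K (LinearMap.ker (N ^ k)) ≤ k * finrank K (LinearMap.ker N) := by
  induction k with
  | zero =>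
    rw [pow_zero, zero_mul]
    have : LinearMap.ker (1 : Module.End K V) = ⊥ := by
      rw [LinearMap.ker_eq_bot']
      intro m hm
      exact hm
    rw [this, finrank_bot]
  | succ k ih =>
    -- the map `N ^ k` from `ker (N ^ (k + 1))` to `ker N`
    let f : LinearMap.ker (N ^ (k + 1)) →ₗ[K] LinearMap.ker N :=
      LinearMap.codRestrict _ ((N ^ k).domRestrict (LinearMap.ker (N ^ (k + 1)))) (fun x => by
        rw [LinearMap.mem_ker, LinearMap.domRestrict_apply]
        have e : N ((N ^ k) (x : V)) = (N ^ (k + 1)) (x : V) := (LinearMap.congr_fun (pow_succ' N k) _).symm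
        rw [e]
        exact x.2)
    have h1 := LinearMap.finrank_range_add_finrank_ker f
    have h2 : finrank K (LinearMap.range f) ≤ finrank K (LinearMap.ker N) := Submodule.finrank_le _
    have h3 : finrank K (LinearMap.ker f) ≤ finrank K (LinearMap.ker (N ^ k)) := by
      have h4 : (LinearMap.ker f).map (LinearMap.ker (N ^ (k + 1))).subtype ≤ LinearMap.ker (N ^ k) := by
        rintro _ ⟨x, hx, rfl⟩
        have hx' : f x = 0 := hx
        exact congrArg Subtype.val hx'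
      have h5 := Submodule.finrank_mono h4
      rwa [Submodule.finrank_map_subtype_eq] at h5
    calc finrank K (LinearMap.ker (N ^ (k + 1))) = finrank K (LinearMap.range f) + finrank K (LinearMap.ker f) := h1.symm
      _ ≤ finrank K (LinearMap.ker N) + k * finrank K (LinearMap.ker N) := by omega
      _ = (k + 1) * finrank K (LinearMap.ker N) := by ring

theorem le_mul_ev (p : ℕ) [Fact p.Prime] [CharP K p] {T : Module.End K V} (h : T ^ p = 1) :
    finrank K V ≤ p * ev T 1 := by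
  rcases subsingleton_or_nontrivial V with hV | hV
  · rw [finrank_zero_of_subsingleton]
    exact Nat.zero_le _
  have hc : CharP (Module.End K V) p := charP_of_injective_algebraMap' K (A := Module.End K V) p
  have h1 : (T - 1) ^ p = 0 := by
    rw [sub_pow_char_of_commute p (Commute.one_right T), h, one_pow, sub_self]
  have h2 := finrank_ker_pow_le (T - 1) p
  rw [h1] at h2
  have h3 : LinearMap.ker (0 : Module.End K V) = ⊤ := LinearMap.ker_zero
  rw [h3, finrank_top] at h2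
  have h4 : LinearMap.ker (T - 1) = es T 1 := by
    ext v
    rw [mem_es_one, LinearMap.mem_ker, LinearMap.sub_apply, sub_eq_zero]
    rfl
  rwa [h4] at h2

/-! ### Involutions -/

/-- the `c`- and `-c`-eigenspaces in an invariant subspace on which `T ^ 2 = c ^ 2` -/
theorem split_sq (h2 : (2 : K) ≠ 0) {c : K} (hc : c ≠ 0) (T : V →ₗ[K] V) (W : Submodule K V)
    (hW : ∀ v ∈ W, T v ∈ W) (hT : ∀ v ∈ W, T (T v) = (c * c) • v) :
    finrank K W = finrank K ↥(W ⊓ es T c) + finrank K ↥(W ⊓ es T (-c)) := by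
  have h1 := Submodule.finrank_sup_add_finrank_inf_eq (W ⊓ es T c) (W ⊓ es T (-c))
  have h3 : W ⊓ es T c ⊓ (W ⊓ es T (-c)) = ⊥ := by
    rw [Submodule.eq_bot_iff]
    rintro v ⟨⟨-, hv1⟩, -, hv2⟩
    rw [SetLike.mem_coe, mem_es] at hv1 hv2
    have h4 : (2 * c) • v = 0 := by
      have e : c • v = -(c • v) := by
        rw [← neg_smul]
        exact hv1.symm.trans hv2
      rw [two_mul, add_smul]
      exact add_eq_zero_iff_eq_neg.2 e
    exact (smul_eq_zero.1 h4).resolve_left (mul_ne_zero h2 hc)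
  have h4 : W ⊓ es T c ⊔ W ⊓ es T (-c) = W := by
    apply le_antisymm (sup_le inf_le_left inf_le_left)
    intro v hv
    have e : v = (2 * c)⁻¹ • (c • v + T v) + (2 * c)⁻¹ • (c • v - T v) := by
      rw [← smul_add]
      have : c • v + T v + (c • v - T v) = (2 * c) • v := by
        rw [two_mul, add_smul]; abel
      rw [this, smul_smul, inv_mul_cancel₀ (mul_ne_zero h2 hc), one_smul]
    rw [e]
    refine Submodule.add_mem_sup (Submodule.smul_mem _ _ ⟨W.add_mem (W.smul_mem _ hv) (hW v hv), ?_⟩)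
      (Submodule.smul_mem _ _ ⟨W.sub_mem (W.smul_mem _ hv) (hW v hv), ?_⟩)
    · rw [SetLike.mem_coe, mem_es, map_add, map_smul, hT v hv, smul_add, smul_smul, add_comm]
    · rw [SetLike.mem_coe, mem_es, map_sub, map_smul, hT v hv, smul_sub, smul_smul, neg_smul, neg_mul, neg_smul]
      abel
  rw [h3, finrank_bot, add_zero, h4] at h1
  exact h1

theorem ev_sq (h2 : (2 : K) ≠ 0) {c : K} (hc : c ≠ 0) (T : Module.End K V) :
    ev (T * T) (c * c) = ev T c + ev T (-c) := by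
  have h1 := split_sq h2 hc T (es (T * T) (c * c)) (fun v hv => ?_) (fun v hv => ?_)
  · have e1 : es (T * T) (c * c) ⊓ es T c = es T c := by
      refine inf_eq_right.2 fun v hv => ?_
      rw [mem_es] at hv ⊢
      show T (T v) = _
      rw [hv, map_smul, hv, smul_smul]
    have e2 : es (T * T) (c * c) ⊓ es T (-c) = es T (-c) := by
      refine inf_eq_right.2 fun v hv => ?_
      rw [mem_es] at hv ⊢
      show T (T v) = _
      rw [hv, map_smul, hv, smul_smul, neg_mul_neg]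
    rw [e1, e2] at h1
    exact h1
  · rw [mem_es] at hv ⊢
    have hv' : T (T v) = (c * c) • v := hv
    show T (T (T v)) = (c * c) • T v
    rw [hv', map_smul]
  · rw [mem_es] at hv
    exact hv

/-- `T ^ 2 = 1` in characteristic not 2, `T ^ 4 = 1` -/
theorem ev_neg (h2 : (2 : K) ≠ 0) (T : Module.End K V) : ev (T * T) 1 = ev T 1 + ev T (-1) := by
  have h := ev_sq h2 one_ne_zero T
  rwa [one_mul] at h

theorem ev_one_of_eq_one {T : Module.End K V} (h : T = 1) : ev T 1 = finrank K V := by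
  rw [ev_eq, h]
  have : es (1 : Module.End K V) 1 = ⊤ := by
    rw [eq_top_iff]
    intro v _
    exact mem_es_one.2 rfl
  rw [this, finrank_top]

theorem ev_i (h2 : (2 : K) ≠ 0) {i : K} (hi : i * i = -1) {T : Module.End K V} (hT : T ^ 4 = 1) :
    finrank K V = ev (T * T) 1 + ev T i + ev T (-i) := by
  have hi0 : i ≠ 0 := by
    rintro rfl
    rw [mul_zero] at hi
    exact one_ne_zero (neg_eq_zero.1 hi.symm)
  have h1 := ev_sq h2 hi0 T
  rw [hi] at h1
  have h3 := ev_neg h2 (T * T)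
  have h4 : T * T * (T * T) = 1 := by rw [← hT]; noncomm_ring
  rw [ev_one_of_eq_one h4] at h3
  omega

/-! ### Elementary abelian 2-groups -/

section rep

variable (ρ : Representation K G V)

theorem rho_sq {a : G} (ha : a * a = 1) (v : V) : ρ a (ρ a v) = v := by
  have h : ρ (a * a) v = v := by rw [ha, map_one]; rfl
  rwa [map_mul] at h

theorem rho_comm {a b : G} (hab : a * b = b * a) (v : V) : ρ a (ρ b v) = ρ b (ρ a v) := by
  have h : ρ (a * b) v = ρ (b * a) v := by rw [hab]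
  rwa [map_mul, map_mul] at h

theorem rho_mul (a b : G) (v : V) : ρ (a * b) v = ρ a (ρ b v) := by
  rw [map_mul]; rfl

/-- an involution on an invariant subspace -/
theorem split_inv (h2 : (2 : K) ≠ 0) {a : G} (ha : a * a = 1) (W : Submodule K V) (hW : ∀ v ∈ W, ρ a v ∈ W) :
    finrank K W = finrank K ↥(W ⊓ es (ρ a) 1) + finrank K ↥(W ⊓ es (ρ a) (-1)) :=
  split_sq h2 one_ne_zero (ρ a) W hW (fun v _ => by rw [rho_sq ρ ha, one_mul, one_smul])

/-- four-groups on an invariant subspace -/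
theorem four_rel (h2 : (2 : K) ≠ 0) {a b : G} (ha : a * a = 1) (hb : b * b = 1)
    (hab : a * b = b * a) (W : Submodule K V) (hWa : ∀ v ∈ W, ρ a v ∈ W) (hWb : ∀ v ∈ W, ρ b v ∈ W) :
    2 * finrank K ↥(W ⊓ es (ρ a) 1 ⊓ es (ρ b) 1) + finrank K W =
      finrank K ↥(W ⊓ es (ρ a) 1) + finrank K ↥(W ⊓ es (ρ b) 1) + finrank K ↥(W ⊓ es (ρ (a * b)) 1) := by
  have h1 := split_inv ρ h2 ha W hWa
  have h3 := split_inv ρ h2 hb (W ⊓ es (ρ a) 1) (fun v hv => ⟨hWb v hv.1, by
    have h := hv.2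
    rw [SetLike.mem_coe, mem_es_one] at h ⊢
    rw [rho_comm ρ hab, h]⟩)
  have h4 := split_inv ρ h2 hb (W ⊓ es (ρ a) (-1)) (fun v hv => ⟨hWb v hv.1, by
    have h := hv.2
    rw [SetLike.mem_coe, mem_es_neg] at h ⊢
    rw [rho_comm ρ hab, h, map_neg]⟩)
  have h5 := split_inv ρ h2 ha (W ⊓ es (ρ b) 1) (fun v hv => ⟨hWa v hv.1, by
    have h := hv.2
    rw [SetLike.mem_coe, mem_es_one] at h ⊢
    rw [← rho_comm ρ hab, h]⟩)
  have h6 := split_inv ρ h2 ha (W ⊓ es (ρ (a * b)) 1) (fun v hv => ⟨hWa v hv.1, by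
    have h := hv.2
    rw [SetLike.mem_coe, mem_es_one] at h ⊢
    rw [rho_mul, ← rho_comm ρ hab, ← rho_mul ρ a b, h]⟩)
  have e1 : W ⊓ es (ρ b) 1 ⊓ es (ρ a) 1 = W ⊓ es (ρ a) 1 ⊓ es (ρ b) 1 := inf_right_comm _ _ _
  have e2 : W ⊓ es (ρ b) 1 ⊓ es (ρ a) (-1) = W ⊓ es (ρ a) (-1) ⊓ es (ρ b) 1 := inf_right_comm _ _ _
  have e3 : W ⊓ es (ρ (a * b)) 1 ⊓ es (ρ a) 1 = W ⊓ es (ρ a) 1 ⊓ es (ρ b) 1 := by
    ext v
    simp only [Submodule.mem_inf, mem_es_one, rho_mul]
    constructor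
    · rintro ⟨⟨h, h'⟩, h''⟩
      rw [rho_comm ρ hab, h''] at h'
      exact ⟨⟨h, h''⟩, h'⟩
    · rintro ⟨⟨h, h'⟩, h''⟩
      exact ⟨⟨h, by rw [h'', h']⟩, h'⟩
  have e4 : W ⊓ es (ρ (a * b)) 1 ⊓ es (ρ a) (-1) = W ⊓ es (ρ a) (-1) ⊓ es (ρ b) (-1) := by
    ext v
    simp only [Submodule.mem_inf, mem_es_one, mem_es_neg, rho_mul]
    constructor
    · rintro ⟨⟨h, h'⟩, h''⟩
      rw [rho_comm ρ hab, h'', map_neg] at h'
      exact ⟨⟨h, h''⟩, by rw [← h', neg_neg, h']⟩
    · rintro ⟨⟨h, h'⟩, h''⟩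
      exact ⟨⟨h, by rw [h'', map_neg, h', neg_neg]⟩, h'⟩
  rw [e1, e2] at h5
  rw [e3, e4] at h6
  omega

end rep

/-- four-groups in characteristic not 2 -/
theorem four (h2 : (2 : K) ≠ 0) (ρ : Representation K G V) {a b : G} (ha : a * a = 1) (hb : b * b = 1)
    (hab : a * b = b * a) :
    2 * finrank K ↥(es (ρ a) 1 ⊓ es (ρ b) 1) + finrank K V =
      ev (ρ a) 1 + ev (ρ b) 1 + ev (ρ (a * b)) 1 := by
  have h := four_rel ρ h2 ha hb hab ⊤ (fun v _ => trivial) (fun v _ => trivial)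
  have e : ∀ X : Submodule K V, ⊤ ⊓ X = X := fun X => top_inf_eq X
  rw [e, e, e, finrank_top] at h
  exact h

/-- elementary abelian groups of order 8 in characteristic not 2 -/
theorem eight (h2 : (2 : K) ≠ 0) (ρ : Representation K G V) {a b c : G} (ha : a * a = 1) (hb : b * b = 1)
    (hc : c * c = 1) (hab : a * b = b * a) (hac : a * c = c * a) (hbc : b * c = c * b) :
    4 * finrank K ↥(es (ρ a) 1 ⊓ es (ρ b) 1 ⊓ es (ρ c) 1) + 3 * finrank K V =
      ev (ρ a) 1 + ev (ρ b) 1 + ev (ρ c) 1 + ev (ρ (a * b)) 1 + ev (ρ (a * c)) 1 + ev (ρ (b * c)) 1 +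
        ev (ρ (a * b * c)) 1 := by
  have hab2 : a * b * (a * b) = 1 := by
    calc a * b * (a * b) = a * (b * a) * b := by group
      _ = a * (a * b) * b := by rw [hab]
      _ = (a * a) * (b * b) := by group
      _ = 1 := by rw [ha, hb, one_mul]
  have habc : a * b * c = c * (a * b) := by rw [mul_assoc, hbc, ← mul_assoc, hac, mul_assoc]
  have h1 := four h2 ρ ha hc hac
  have h3 := four h2 ρ hb hc hbc
  have h4 := four h2 ρ hab2 hc habc
  have h5 := four_rel ρ h2 ha hb hab (es (ρ c) 1) (fun v hv => by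
    rw [mem_es_one] at hv ⊢
    rw [← rho_comm ρ hac, hv]) (fun v hv => by
    rw [mem_es_one] at hv ⊢
    rw [← rho_comm ρ hbc, hv])
  have e1 : es (ρ c) 1 ⊓ es (ρ a) 1 ⊓ es (ρ b) 1 = es (ρ a) 1 ⊓ es (ρ b) 1 ⊓ es (ρ c) 1 := by
    rw [inf_comm (es (ρ c) 1), inf_right_comm]
  rw [e1, inf_comm (es (ρ c) 1), inf_comm (es (ρ c) 1), inf_comm (es (ρ c) 1), ← ev_eq] at h5
  omega

/-! ### `A₄` -/

/-- `A₄`: the element `t` of order 3 permutes `a, b, ab` -/
theorem a4 (h2 : (2 : K) ≠ 0) (ρ : Representation K G V) {a b t : G} (ha : a * a = 1) (hb : b * b = 1)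
    (hab : a * b = b * a) (ht : t ^ 3 = 1) (hta : t * a * t⁻¹ = b) (htb : t * b * t⁻¹ = a * b) :
    3 * ev (ρ t) 1 + finrank K ↥(es (ρ a) 1 ⊓ es (ρ b) 1) =
      3 * finrank K ↥(es (ρ a) 1 ⊓ es (ρ b) 1 ⊓ es (ρ t) 1) + finrank K V := by
  -- the action of `t`
  have t1 : t * a = b * t := by rw [← hta]; group
  have t2 : t * b = a * b * t := by rw [← htb]; group
  have t3 : t * (a * b) = a * t := by
    calc t * (a * b) = (t * a) * b := by group
      _ = b * (t * b) := by rw [t1]; group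
      _ = b * (a * b) * t := by rw [t2]; group
      _ = (b * a) * b * t := by group
      _ = a * (b * b) * t := by rw [← hab]; group
      _ = a * t := by rw [hb, mul_one]
  have r1 : ∀ v, ρ t (ρ a v) = ρ b (ρ t v) := fun v => by rw [← rho_mul, t1, rho_mul]
  have r2 : ∀ v, ρ t (ρ b v) = ρ a (ρ b (ρ t v)) := fun v => by rw [← rho_mul, t2, rho_mul, rho_mul]
  have r3 : ∀ v, ρ t (ρ a (ρ b v)) = ρ a (ρ t v) := fun v => by rw [← rho_mul ρ a b, ← rho_mul, t3, rho_mul]
  have rt : ∀ v, ρ t (ρ t (ρ t v)) = v := fun v => by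
    rw [← rho_mul, ← rho_mul, ← pow_three', ht, map_one]
    rfl
  have ra : ∀ v, ρ a (ρ a v) = v := rho_sq ρ ha
  have rb : ∀ v, ρ b (ρ b v) = v := rho_sq ρ hb
  have rab : ∀ v, ρ a (ρ b v) = ρ b (ρ a v) := rho_comm ρ hab
  have r1' : ∀ v, ρ b v = ρ t (ρ a (ρ t (ρ t v))) := fun v => by rw [r1, rt]
  -- the eigenspaces of `a`, `b`, `ab` have the same dimension
  have inj : ∀ {x y : G}, t * x = y * t → ev (ρ x) 1 ≤ ev (ρ y) 1 := by
    intro x y hxy
    have hinj : Function.Injective (ρ t) := by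
      intro v w hvw
      rw [← rt v, hvw, rt]
    rw [ev_eq, ev_eq, (Submodule.equivMapOfInjective (ρ t) hinj (es (ρ x) 1)).finrank_eq]
    apply Submodule.finrank_mono
    rintro _ ⟨v, hv, rfl⟩
    rw [SetLike.mem_coe, mem_es_one] at hv
    rw [mem_es_one, ← rho_mul, ← hxy, rho_mul, hv]
  have i1 := inj t1
  have i2 := inj t2
  have i3 := inj t3
  have h4 := four h2 ρ ha hb hab
  -- the map `Q = (1 + a)(1 - b)`
  let Q : V →ₗ[K] V := (1 + ρ a) * (1 - ρ b)
  have hQ : ∀ v, Q v = v - ρ b v + ρ a (v - ρ b v) := fun v => rfl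
  let f : es (ρ t) 1 →ₗ[K] V := Q.domRestrict (es (ρ t) 1)
  have hr := LinearMap.finrank_range_add_finrank_ker f
  -- the kernel
  have hker : finrank K (LinearMap.ker f) = finrank K ↥(es (ρ a) 1 ⊓ es (ρ b) 1 ⊓ es (ρ t) 1) := by
    have e : (LinearMap.ker f).map (es (ρ t) 1).subtype = es (ρ a) 1 ⊓ es (ρ b) 1 ⊓ es (ρ t) 1 := by
      apply le_antisymm
      · rintro _ ⟨⟨v, hv⟩, hv0, rfl⟩
        have hv1 := hv
        rw [mem_es_one] at hv1
        have hQ0 : v - ρ b v + ρ a (v - ρ b v) = 0 := hv0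
        rw [map_sub] at hQ0
        -- apply `t`
        have hQ1 := congrArg (ρ t) hQ0
        rw [map_add, map_sub, map_sub, r3, r2, r1, hv1, map_zero] at hQ1
        have hQ2 := congrArg (ρ t) hQ1
        rw [map_add, map_sub, map_sub, r3, r2, r1, hv1, map_zero] at hQ2
        have k1 : (2 : K) • (v - ρ a (ρ b v)) = 0 := by
          have e := congrArg₂ (fun x y : V => x + y) hQ0 hQ1
          simp only [add_zero] at e
          rw [two_smul, ← e]
          abel
        have k2 : (2 : K) • (v - ρ b v) = 0 := by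
          have e := congrArg₂ (fun x y : V => x + y) hQ0 hQ2
          simp only [add_zero] at e
          rw [two_smul, ← e]
          abel
        have k3 := sub_eq_zero.1 ((smul_eq_zero.1 k2).resolve_left h2)
        have k4 := sub_eq_zero.1 ((smul_eq_zero.1 k1).resolve_left h2)
        rw [← k3] at k4
        exact ⟨⟨mem_es_one.2 k4.symm, mem_es_one.2 k3.symm⟩, hv⟩
      · rintro v ⟨⟨hva, hvb⟩, hvt⟩
        refine ⟨⟨v, hvt⟩, ?_, rfl⟩
        rw [SetLike.mem_coe, mem_es_one] at hva hvb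
        show v - ρ b v + ρ a (v - ρ b v) = 0
        rw [hvb, sub_self, map_zero, add_zero]
    rw [← e, Submodule.finrank_map_subtype_eq]
  -- the range
  have hran : LinearMap.range f = es (ρ a) 1 ⊓ es (ρ b) (-1) := by
    apply le_antisymm
    · rintro _ ⟨v, rfl⟩
      have hfv : f v = (v : V) - ρ b v + ρ a ((v : V) - ρ b v) := rfl
      rw [hfv]
      refine ⟨?_, ?_⟩
      · rw [SetLike.mem_coe, mem_es_one, map_add, ra, add_comm]
      · rw [SetLike.mem_coe, mem_es_neg]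
        simp only [map_add, map_sub, ← rab, rb]
        abel
    · rintro u ⟨hua, hub⟩
      rw [SetLike.mem_coe, mem_es_one] at hua
      rw [SetLike.mem_coe, mem_es_neg] at hub
      -- `w = u + t u + t² u`
      have hw : u + ρ t u + ρ t (ρ t u) ∈ es (ρ t) 1 := by
        rw [mem_es_one, map_add, map_add, rt]
        abel
      have a1 : ρ b (ρ t u) = ρ t u := by rw [← r1, hua]
      have a2 : ρ a (ρ t u) = -ρ t u := by rw [← r3, hub, map_neg, hua, map_neg]
      have a3 : ρ b (ρ t (ρ t u)) = -ρ t (ρ t u) := by rw [← r1, a2, map_neg]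
      have a4 : ρ a (ρ t (ρ t u)) = -ρ t (ρ t u) := by rw [← r3, a1, a2, map_neg]
      refine ⟨((2 : K) * 2)⁻¹ • ⟨_, hw⟩, ?_⟩
      rw [map_smul]
      have e : f ⟨_, hw⟩ = ((2 : K) * 2) • u := by
        show u + ρ t u + ρ t (ρ t u) - ρ b (u + ρ t u + ρ t (ρ t u)) +
          ρ a (u + ρ t u + ρ t (ρ t u) - ρ b (u + ρ t u + ρ t (ρ t u))) = _
        simp only [map_add, map_sub, map_neg, hub, a1, a3, hua, a2, a4, mul_smul, two_smul]
        abel
      rw [e, smul_smul, inv_mul_cancel₀ (mul_ne_zero h2 h2), one_smul]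
  have h5 := split_inv ρ h2 hb (es (ρ a) 1) (fun v hv => by
    rw [mem_es_one] at hv ⊢
    rw [rab, hv])
  rw [hker, hran] at hr
  have e1 : finrank K (es (ρ t) 1) = ev (ρ t) 1 := rfl
  have e2 : finrank K (es (ρ a) 1) = ev (ρ a) 1 := rfl
  omega

/-! ### Dihedral groups -/

/-- dihedral groups of twice odd order, any field of characteristic not 2 -/
theorem dihedral (h2 : (2 : K) ≠ 0) (ρ : Representation K G V) {z s : G} {m : ℕ} (hm : Odd m) (hmK : (m : K) ≠ 0)
    (hz : z ^ m = 1) (hs : s * s = 1) (hsz : s * z * s⁻¹ = z⁻¹) {μ : K} (hμ : μ = 1 ∨ μ = -1) :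
    2 * finrank K ↥(es (ρ z) 1 ⊓ es (ρ s) μ) + finrank K V = 2 * ev (ρ s) μ + ev (ρ z) 1 := by
  have sz : s * z = z⁻¹ * s := by rw [← hsz]; group
  have r1 : ∀ v, ρ s (ρ z v) = ρ z⁻¹ (ρ s v) := fun v => by rw [← rho_mul, sz, rho_mul]
  have sz' : s * z⁻¹ = z * s := by
    calc s * z⁻¹ = z * (z⁻¹ * s) * z⁻¹ := by group
      _ = z * s := by rw [← sz]; group
  have r2 : ∀ v, ρ s (ρ z⁻¹ v) = ρ z (ρ s v) := fun v => by rw [← rho_mul, sz', rho_mul]
  have rz : ∀ v, ρ z (ρ z⁻¹ v) = v := fun v => by rw [← rho_mul, mul_inv_cancel, map_one]; rfl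
  have rz' : ∀ v, ρ z⁻¹ (ρ z v) = v := fun v => by rw [← rho_mul, inv_mul_cancel, map_one]; rfl
  have rs : ∀ v, ρ s (ρ s v) = v := rho_sq ρ hs
  let D : V →ₗ[K] V := ρ z - 1
  let U : Submodule K V := LinearMap.range D
  have hD : ∀ v, D v = ρ z v - v := fun v => rfl
  have hK : LinearMap.ker D = es (ρ z) 1 := by
    ext v
    rw [LinearMap.mem_ker, hD, sub_eq_zero, mem_es_one]
  have hrk := LinearMap.finrank_range_add_finrank_ker D
  rw [hK] at hrk
  -- `K ∩ U = 0`
  have hpow : ∀ (n : ℕ) (v : V), ρ z v = v → ρ (z ^ n) v = v := by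
    intro n v hv
    induction n with
    | zero => rw [pow_zero, map_one]; rfl
    | succ n ih => rw [pow_succ, rho_mul, hv, ih]
  have hsum : ∀ (n : ℕ) (v : V), ∑ i ∈ Finset.range n, ρ (z ^ i) (ρ z v - v) = ρ (z ^ n) v - v := by
    intro n v
    induction n with
    | zero => simp
    | succ n ih =>
      rw [Finset.sum_range_succ, ih, map_sub, ← rho_mul ρ (z ^ n) z, ← pow_succ]
      abel
  have hKU : ∀ v, v ∈ es (ρ z) 1 → v ∈ U → v = 0 := by
    rintro _ hv ⟨w, rfl⟩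
    rw [mem_es_one] at hv
    have h1 := hsum m w
    rw [hz, map_one, Module.End.one_apply, sub_self] at h1
    have h3 : ∑ i ∈ Finset.range m, ρ (z ^ i) (ρ z w - w) = (m : K) • D w := by
      have h4 : ∑ i ∈ Finset.range m, ρ (z ^ i) (ρ z w - w) = ∑ i ∈ Finset.range m, D w :=
        Finset.sum_congr rfl fun i _ => hpow i _ hv
      rw [h4, Finset.sum_const, Finset.card_range, Nat.cast_smul_eq_nsmul]
    rw [h3] at h1
    exact (smul_eq_zero.1 h1).resolve_left hmK
  -- `s` acts on `U` and on `K`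
  have hsU : ∀ v ∈ U, ρ s v ∈ U := by
    rintro _ ⟨w, rfl⟩
    refine ⟨-(ρ z⁻¹ (ρ s w)), ?_⟩
    rw [hD, hD, map_sub, map_neg, r1, rz]
    abel
  have hsK : ∀ v ∈ es (ρ z) 1, ρ s v ∈ es (ρ z) 1 := by
    intro v hv
    rw [mem_es_one] at hv ⊢
    rw [← r2]
    congr 1
    nth_rw 1 [← hv]
    rw [rz']
  have hzU : ∀ v ∈ U, ρ z v ∈ U := by
    rintro _ ⟨w, rfl⟩
    exact ⟨ρ z w, by rw [hD, hD, map_sub]⟩
  have hzU' : ∀ v ∈ U, ρ z⁻¹ v ∈ U := by
    rintro _ ⟨w, rfl⟩
    exact ⟨ρ z⁻¹ w, by rw [hD, hD, map_sub, rz, rz']⟩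
  -- the map `z - z⁻¹` is injective on `U`
  let E : V →ₗ[K] V := ρ z - ρ z⁻¹
  have hE : ∀ v, E v = ρ z v - ρ z⁻¹ v := fun v => rfl
  have hEinj : ∀ v ∈ U, E v = 0 → v = 0 := by
    intro v hv h0
    apply hKU v _ hv
    rw [mem_es_one]
    rw [hE, sub_eq_zero] at h0
    -- `z ^ 2` fixes `v`
    have h1 : ρ (z ^ 2) v = v := by rw [pow_two, rho_mul, h0, rz]
    have h3 : ∀ n : ℕ, ρ (z ^ (2 * n)) v = v := by
      intro n
      induction n with
      | zero => rw [mul_zero, pow_zero, map_one]; rfl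
      | succ n ih => rw [mul_add, mul_one, pow_add, rho_mul, h1, ih]
    obtain ⟨n, hn⟩ := hm
    have h4 : ρ (z ^ (m + 1)) v = v := by
      rw [show m + 1 = 2 * (n + 1) by omega]
      exact h3 _
    rwa [pow_succ, hz, one_mul] at h4
  have hEs : ∀ v, ρ s (E v) = -E (ρ s v) := by
    intro v
    rw [hE, hE, map_sub, r1, r2]
    abel
  have key : ∀ c : K, finrank K ↥(U ⊓ es (ρ s) c) ≤ finrank K ↥(U ⊓ es (ρ s) (-c)) := by
    intro c
    let g : ↥(U ⊓ es (ρ s) c) →ₗ[K] ↥(U ⊓ es (ρ s) (-c)) :=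
      LinearMap.codRestrict _ (E.domRestrict (U ⊓ es (ρ s) c)) (fun v => by
        have h1 := v.2.2
        rw [SetLike.mem_coe, mem_es] at h1
        refine ⟨?_, ?_⟩
        · rw [SetLike.mem_coe, LinearMap.domRestrict_apply, hE]
          exact U.sub_mem (hzU _ v.2.1) (hzU' _ v.2.1)
        · rw [SetLike.mem_coe, LinearMap.domRestrict_apply, mem_es, hEs, h1, map_smul, neg_smul])
    apply LinearMap.finrank_le_finrank_of_injective (f := g)
    rw [← LinearMap.ker_eq_bot, LinearMap.ker_eq_bot']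
    intro v hv
    have h1 : E (v : V) = 0 := congrArg Subtype.val hv
    exact Subtype.ext (hEinj v v.2.1 h1)
  have k1 := key 1
  have k2 := key (-1)
  rw [neg_neg] at k2
  have s1 := split_inv ρ h2 hs U hsU
  have s2 := split_inv ρ h2 hs (es (ρ z) 1) hsK
  have s3 := split_inv ρ h2 hs ⊤ (fun _ _ => trivial)
  have e : ∀ X : Submodule K V, ⊤ ⊓ X = X := fun X => top_inf_eq X
  rw [e, e, finrank_top] at s3
  have low : ∀ c : K, finrank K ↥(es (ρ z) 1 ⊓ es (ρ s) c) + finrank K ↥(U ⊓ es (ρ s) c) ≤ finrank K ↥(es (ρ s) c) := by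
    intro c
    have h1 := Submodule.finrank_sup_add_finrank_inf_eq (es (ρ z) 1 ⊓ es (ρ s) c) (U ⊓ es (ρ s) c)
    have h3 : es (ρ z) 1 ⊓ es (ρ s) c ⊓ (U ⊓ es (ρ s) c) = ⊥ := by
      rw [Submodule.eq_bot_iff]
      rintro v ⟨⟨hv1, -⟩, hv2, -⟩
      exact hKU v hv1 hv2
    rw [h3, finrank_bot, add_zero] at h1
    rw [← h1]
    exact Submodule.finrank_mono (sup_le inf_le_right inf_le_right)
  have l1 := low 1
  have l2 := low (-1)
  have hUr : finrank K U = finrank K (LinearMap.range D) := rfl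
  have e1 : ∀ c : K, ev (ρ s) c = finrank K (es (ρ s) c) := fun c => rfl
  have e2 : ev (ρ z) 1 = finrank K (es (ρ z) 1) := rfl
  rcases hμ with rfl | rfl
  · rw [e1, e2]; omega
  · rw [e1, e2]; omega

/-! ### Traces of `p`-th powers -/

open Polynomial in
theorem expand_charpoly (p : ℕ) [Fact p.Prime] [CharP K p] {n : Type*} [Fintype n] [DecidableEq n]
    (M : Matrix n n K) : Polynomial.expand K p (M ^ p).charpoly = M.charpoly ^ p := by
  cases (isEmpty_or_nonempty n).symm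
  · unfold Matrix.charpoly
    rw [AlgHom.map_det, ← Matrix.coe_detMonoidHom,
      ← (Matrix.detMonoidHom : Matrix n n K[X] →* K[X]).map_pow]
    apply congr_arg Matrix.det
    refine matPolyEquiv.injective ?_
    rw [map_pow, Matrix.matPolyEquiv_charmatrix, sub_pow_char_of_commute p (Polynomial.C M).commute_X, ← Polynomial.C_pow]
    exact (id (matPolyEquiv_eq_X_pow_sub_C p M) :)
  · simp [Matrix.charpoly]

/-- traces of `p`-th powers in characteristic `p` -/
theorem trace_pow_char (p : ℕ) [Fact p.Prime] [CharP K p] (T : Module.End K V) :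
    LinearMap.trace K V (T ^ p) = LinearMap.trace K V T ^ p := by
  classical
  have hp : p.Prime := Fact.out
  let b := Module.finBasis K V
  rw [LinearMap.trace_eq_matrix_trace K b, LinearMap.trace_eq_matrix_trace K b, ← LinearMap.toMatrix_pow]
  set M := LinearMap.toMatrix b b T
  rcases isEmpty_or_nonempty (Fin (finrank K V)) with hE | hN
  · simp [Matrix.trace, hp.ne_zero]
  · have h1 := expand_charpoly p M
    have h3 : Polynomial.expand K p (M ^ p).charpoly =
        Polynomial.expand K p (M.charpoly.map (frobenius K p)) := by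
      rw [h1, ← Polynomial.map_expand, Polynomial.map_frobenius_expand]
    have h4 := Polynomial.expand_injective hp.pos h3
    rw [Matrix.trace_eq_neg_charpoly_coeff, Matrix.trace_eq_neg_charpoly_coeff, h4, Polynomial.coeff_map,
      ← map_neg]
    rfl

end Cfsg.Agent.H546.F4Eig

/-! ### The statements of the plan -/

namespace Cfsg.Agent.H952.F4.Eig

open Module
variable {K V G : Type*} [Field K] [AddCommGroup V] [Module K V] [FiniteDimensional K V] [Group G]

theorem le_mul_ev (p : ℕ) [Fact p.Prime] [CharP K p] {T : Module.End K V} (h : T ^ p = 1) :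
    finrank K V ≤ p * ev T 1 := Cfsg.Agent.H546.F4Eig.le_mul_ev p h

theorem ev_neg (h2 : (2 : K) ≠ 0) (T : Module.End K V) : ev (T * T) 1 = ev T 1 + ev T (-1) := Cfsg.Agent.H546.F4Eig.ev_neg h2 T

theorem ev_i (h2 : (2 : K) ≠ 0) {i : K} (hi : i * i = -1) {T : Module.End K V} (hT : T ^ 4 = 1) :
    finrank K V = ev (T * T) 1 + ev T i + ev T (-i) := Cfsg.Agent.H546.F4Eig.ev_i h2 hi hT

theorem four (h2 : (2 : K) ≠ 0) (ρ : Representation K G V) {a b : G} (ha : a * a = 1) (hb : b * b = 1)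
    (hab : a * b = b * a) :
    2 * finrank K ↥(es (ρ a) 1 ⊓ es (ρ b) 1) + finrank K V =
      ev (ρ a) 1 + ev (ρ b) 1 + ev (ρ (a * b)) 1 := Cfsg.Agent.H546.F4Eig.four h2 ρ ha hb hab

theorem a4 (h2 : (2 : K) ≠ 0) (ρ : Representation K G V) {a b t : G} (ha : a * a = 1) (hb : b * b = 1)
    (hab : a * b = b * a) (ht : t ^ 3 = 1) (hta : t * a * t⁻¹ = b) (htb : t * b * t⁻¹ = a * b) :
    3 * ev (ρ t) 1 + finrank K ↥(es (ρ a) 1 ⊓ es (ρ b) 1) =
      3 * finrank K ↥(es (ρ a) 1 ⊓ es (ρ b) 1 ⊓ es (ρ t) 1) + finrank K V := Cfsg.Agent.H546.F4Eig.a4 h2 ρ ha hb hab ht hta htb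

theorem eight (h2 : (2 : K) ≠ 0) (ρ : Representation K G V) {a b c : G} (ha : a * a = 1) (hb : b * b = 1)
    (hc : c * c = 1) (hab : a * b = b * a) (hac : a * c = c * a) (hbc : b * c = c * b) :
    4 * finrank K ↥(es (ρ a) 1 ⊓ es (ρ b) 1 ⊓ es (ρ c) 1) + 3 * finrank K V =
      ev (ρ a) 1 + ev (ρ b) 1 + ev (ρ c) 1 + ev (ρ (a * b)) 1 + ev (ρ (a * c)) 1 + ev (ρ (b * c)) 1 +
        ev (ρ (a * b * c)) 1 := Cfsg.Agent.H546.F4Eig.eight h2 ρ ha hb hc hab hac hbc

theorem dihedral (h2 : (2 : K) ≠ 0) (ρ : Representation K G V) {z s : G} {m : ℕ} (hm : Odd m) (hmK : (m : K) ≠ 0)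
    (hz : z ^ m = 1) (hs : s * s = 1) (hsz : s * z * s⁻¹ = z⁻¹) {μ : K} (hμ : μ = 1 ∨ μ = -1) :
    2 * finrank K ↥(es (ρ z) 1 ⊓ es (ρ s) μ) + finrank K V = 2 * ev (ρ s) μ + ev (ρ z) 1 := Cfsg.Agent.H546.F4Eig.dihedral h2 ρ hm hmK hz hs hsz hμ

theorem trace_pow_char (p : ℕ) [Fact p.Prime] [CharP K p] (T : Module.End K V) :
    LinearMap.trace K V (T ^ p) = LinearMap.trace K V T ^ p := Cfsg.Agent.H546.F4Eig.trace_pow_char p T

end Cfsg.Agent.H952.F4.Eig
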